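import Mathlib.AlgebraicGeometry.OrderOfVanishing
import Mathlib.AlgebraicGeometry.FunctionField
import Mathlib.RingTheory.UniqueFactorizationDomain.Basic
import Mathlib.RingTheory.Ideal.UFD

set_option linter.unusedSectionVars false
set_option linter.unusedVariables false
set_option linter.unusedSimpArgs false
set_option autoImplicit false
set_option linter.style.haveILetI false
set_option maxHeartbeats 400000

namespace Groth.Agent.Helper6.WDivUFD

open AlgebraicGeometry CategoryTheory Order

universe u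

/-- In a local ring whose maximal ideal is generated by `g`, `ord g = 1`. -/
lemma ord_eq_one_of_maximalIdeal_eq {R : Type*} [CommRing R] [IsLocalRing R] {g : R}
    (hg : IsLocalRing.maximalIdeal R = Ideal.span {g}) : Ring.ord R g = 1 := by
  rw [Ring.ord, Module.length_eq_one_iff, ← hg, isSimpleModule_iff_isCoatom]
  exact Ideal.isMaximal_def.mp (IsLocalRing.maximalIdeal.isMaximal R)

variable (A : Type u) [CommRing A] [IsDomain A] [IsNoetherianRing A]

/-- The canonical map from `A` to the function field of `Spec A`. -/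
noncomputable def ι : A →+* ↑(Spec (CommRingCat.of A)).functionField :=
  (StructureSheaf.toStalk A (genericPoint (Spec (CommRingCat.of A)))).hom

lemma ι_eq (y : ↥(Spec (CommRingCat.of A))) (a : A) :
    ι A a = algebraMap ((Spec (CommRingCat.of A)).presheaf.stalk y)
      (Spec (CommRingCat.of A)).functionField ((StructureSheaf.toStalk A y).hom a) := by
  have h := StructureSheaf.toStalk_stalkSpecializes (R := A)
    (x := genericPoint (Spec (CommRingCat.of A))) (y := y)
    ((genericPoint_spec (Spec (CommRingCat.of A))).specializes trivial)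
  have h2 := congrArg (fun f => f.hom a) h
  exact h2.symm

lemma toStalk_injective (y : PrimeSpectrum A) :
    Function.Injective (StructureSheaf.toStalk A y).hom := by
  have h := IsLocalization.injective (M := y.asIdeal.primeCompl)
    ((Spec.structureSheaf A).presheaf.stalk y)
    (Ideal.primeCompl_le_nonZeroDivisors y.asIdeal)
  exact h

lemma ι_injective : Function.Injective (ι A) :=
  toStalk_injective A _

lemma isUnit_toStalk (y : PrimeSpectrum A) (a : A) (ha : a ∉ y.asIdeal) :
    IsUnit ((StructureSheaf.toStalk A y).hom a) := by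
  have h := IsLocalization.map_units (M := y.asIdeal.primeCompl)
    ((Spec.structureSheaf A).presheaf.stalk y) ⟨a, ha⟩
  exact h

lemma maximalIdeal_stalk (y : ↥(Spec (CommRingCat.of A))) (a : A)
    (ha : y.asIdeal = Ideal.span {a}) :
    IsLocalRing.maximalIdeal ((Spec (CommRingCat.of A)).presheaf.stalk y) =
      Ideal.span {(StructureSheaf.toStalk A y).hom a} := by
  letI k : Algebra A ↑((Spec (CommRingCat.of A)).presheaf.stalk y) :=
    StructureSheaf.stalkAlgebra A y
  haveI hyp : y.asIdeal.IsPrime := PrimeSpectrum.isPrime y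
  haveI : IsLocalization.AtPrime (↑((Spec (CommRingCat.of A)).presheaf.stalk y)) y.asIdeal :=
    StructureSheaf.IsLocalization.to_stalk A y
  have h := IsLocalization.AtPrime.map_eq_maximalIdeal y.asIdeal
    ((Spec (CommRingCat.of A)).presheaf.stalk y)
  rw [← h, ha, Ideal.map_span, Set.image_singleton]
  rfl

lemma ordHom_of_notMem (y : ↥(Spec (CommRingCat.of A))) (hy : coheight y = 1) (a : A)
    (ha : a ∉ y.asIdeal) :
    (Spec (CommRingCat.of A)).ordHom y hy (ι A a) = 1 := by
  haveI : Ring.KrullDimLE 1 ((Spec (CommRingCat.of A)).presheaf.stalk y) :=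
    krullDimLE_of_coheight_le hy.le
  rw [ι_eq A y a]
  exact Ring.ordFrac_of_isUnit (isUnit_toStalk A y a ha)

lemma ordHom_of_span (y : ↥(Spec (CommRingCat.of A))) (hy : coheight y = 1) (a : A)
    (ha0 : a ≠ 0) (ha : y.asIdeal = Ideal.span {a}) :
    (Spec (CommRingCat.of A)).ordHom y hy (ι A a) =
      ((Multiplicative.ofAdd (1 : ℤ) : Multiplicative ℤ) : WithZero (Multiplicative ℤ)) := by
  haveI : Ring.KrullDimLE 1 ((Spec (CommRingCat.of A)).presheaf.stalk y) :=
    krullDimLE_of_coheight_le hy.le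
  obtain ⟨g, hg⟩ : ∃ g : ↑((Spec (CommRingCat.of A)).presheaf.stalk y),
      g = (StructureSheaf.toStalk A y).hom a := ⟨_, rfl⟩
  have hg0 : g ≠ 0 := by
    intro h
    apply ha0
    apply toStalk_injective A y
    rw [← hg, h, map_zero]
    rfl
  have hι : ι A a = algebraMap ((Spec (CommRingCat.of A)).presheaf.stalk y)
        (Spec (CommRingCat.of A)).functionField g := by
    rw [hg]; exact ι_eq A y a
  rw [hι]
  have h1 : Ring.ordFrac ((Spec (CommRingCat.of A)).presheaf.stalk y)
      (algebraMap ((Spec (CommRingCat.of A)).presheaf.stalk y)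
        (Spec (CommRingCat.of A)).functionField g) =
      Ring.ordMonoidWithZeroHom ((Spec (CommRingCat.of A)).presheaf.stalk y) g :=
    Ring.ordFrac_eq_ord _ hg0
  have hmax : IsLocalRing.maximalIdeal ((Spec (CommRingCat.of A)).presheaf.stalk y) =
      Ideal.span {g} := by
    rw [hg]; exact maximalIdeal_stalk A y a ha
  have h2 : Ring.ord ((Spec (CommRingCat.of A)).presheaf.stalk y) g = ((1 : ℕ) : ℕ∞) := by
    rw [ord_eq_one_of_maximalIdeal_eq hmax]
    rfl
  have h3 := Ring.ordMonoidWithZeroHom_eq_coe ((Spec (CommRingCat.of A)).presheaf.stalk y)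
    (mem_nonZeroDivisors_of_ne_zero hg0) h2
  show Ring.ordFrac ((Spec (CommRingCat.of A)).presheaf.stalk y) _ = _
  rw [h1, h3]
  rfl

lemma exists_generator [UniqueFactorizationMonoid A] (x : ↥(Spec (CommRingCat.of A)))
    (hx : coheight x = 1) : ∃ a : A, a ≠ 0 ∧ x.asIdeal = Ideal.span {a} := by
  haveI hxp : x.asIdeal.IsPrime := PrimeSpectrum.isPrime x
  have hh : x.asIdeal.height = 1 := by
    rw [idealHeight_eq_coheight (CommRingCat.of A) x, hx]
  obtain ⟨a, ha⟩ := UniqueFactorizationMonoid.isPrincipal_of_height_eq_one hh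
  refine ⟨a, ?_, ha⟩
  rintro rfl
  apply Ideal.ne_bot_of_height_eq_one hh
  rw [ha]
  simp

lemma notMem_of_ne (x y : ↥(Spec (CommRingCat.of A)))
    (hx : coheight x = 1) (hy : coheight y = 1) (hxy : x ≠ y) (a : A)
    (ha : x.asIdeal = Ideal.span {a}) : a ∉ y.asIdeal := by
  haveI hxp : x.asIdeal.IsPrime := PrimeSpectrum.isPrime x
  haveI hyp : y.asIdeal.IsPrime := PrimeSpectrum.isPrime y
  intro hmem
  apply hxy
  have hle : x.asIdeal ≤ y.asIdeal := by
    rw [ha, Ideal.span_singleton_le_iff_mem]; exact hmem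
  have hhx : x.asIdeal.height = 1 := by
    rw [idealHeight_eq_coheight (CommRingCat.of A) x, hx]
  have hhy : y.asIdeal.height = 1 := by
    rw [idealHeight_eq_coheight (CommRingCat.of A) y, hy]
  haveI : x.asIdeal.FiniteHeight := by
    rw [Ideal.finiteHeight_iff]; right; rw [hhx]; exact ENat.one_ne_top
  have hhle : y.asIdeal.height ≤ x.asIdeal.height := by rw [hhx, hhy]
  have := Ideal.eq_of_le_of_height_le (I := x.asIdeal) (J := y.asIdeal) hle hhle
  exact PrimeSpectrum.ext this

theorem principal [UniqueFactorizationMonoid A]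
    (D : ↥(Spec (CommRingCat.of A)) → ℤ) (hD : ∀ x, coheight x ≠ 1 → D x = 0)
    (hfin : {x | D x ≠ 0}.Finite) :
    ∃ f : ↑(Spec (CommRingCat.of A)).functionField, f ≠ 0 ∧
      ∀ x : ↥(Spec (CommRingCat.of A)), coheight x = 1 → Scheme.ord f x = D x := by
  classical
  have hex : ∀ x : ↥(Spec (CommRingCat.of A)), ∃ a : A, a ≠ 0 ∧
      (coheight x = 1 → x.asIdeal = Ideal.span {a}) := by
    intro x
    by_cases hx : coheight x = 1
    · obtain ⟨a, ha0, ha⟩ := exists_generator A x hx
      exact ⟨a, ha0, fun _ => ha⟩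
    · exact ⟨1, one_ne_zero, fun h => absurd h hx⟩
  choose π hπ0 hπ using hex
  let S : Finset ↥(Spec (CommRingCat.of A)) := hfin.toFinset
  have hS : ∀ x, x ∈ S ↔ D x ≠ 0 := fun x => by simp [S]
  let f : ↑(Spec (CommRingCat.of A)).functionField := ∏ x ∈ S, (ι A (π x)) ^ (D x)
  have hιne : ∀ x, ι A (π x) ≠ 0 := by
    intro x h
    apply hπ0 x
    apply ι_injective A
    rw [h, map_zero]
  have hf : f ≠ 0 := by
    apply Finset.prod_ne_zero_iff.mpr
    intro x _
    exact zpow_ne_zero _ (hιne x)
  refine ⟨f, hf, ?_⟩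
  intro y hy
  rw [Scheme.ord_eq_iff hy hf]
  show (Spec (CommRingCat.of A)).ordHom y hy (∏ x ∈ S, (ι A (π x)) ^ (D x)) = _
  rw [map_prod]
  have hterm : ∀ x ∈ S, x ≠ y →
      (Spec (CommRingCat.of A)).ordHom y hy ((ι A (π x)) ^ (D x)) = 1 := by
    intro x hxS hxy
    have hx1 : coheight x = 1 := by
      by_contra h
      exact (hS x).mp hxS (hD x h)
    rw [map_zpow₀, ordHom_of_notMem A y hy (π x)
      (notMem_of_ne A x y hx1 hy hxy (π x) (hπ x hx1)), one_zpow]
  have hy' : (Spec (CommRingCat.of A)).ordHom y hy ((ι A (π y)) ^ (D y)) =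
      ((Multiplicative.ofAdd (D y) : Multiplicative ℤ) : WithZero (Multiplicative ℤ)) := by
    rw [map_zpow₀, ordHom_of_span A y hy (π y) (hπ0 y) (hπ y hy), ← WithZero.coe_zpow,
      ← ofAdd_zsmul]
    simp
  by_cases hyS : y ∈ S
  · rw [Finset.prod_eq_single_of_mem y hyS (fun x hx hxy => hterm x hx hxy), hy']
  · have hDy : D y = 0 := by
      by_contra h
      exact hyS ((hS y).mpr h)
    rw [Finset.prod_eq_one (fun x hx => hterm x hx (fun h => hyS (h ▸ hx))), hDy]
    rfl

end Groth.Agent.Helper6.WDivUFD
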